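import Cfsg.Agent.H684.EB.Base
import Cfsg.Agent.H684.EB.EvenS
import Cfsg.Agent.H139.Cusp.Adams
import Cfsg.Agent.S0145
import Cfsg.Agent.S0925
import Cfsg.Agent.S0962
import Cfsg.Agent.Blocks.PPart
import Cfsg.Agent.Blocks.CentralizerSum
import Cfsg.Agent.Blocks.PrincipalSection

/-!
# TEAM EB, T05: the parity criterion (ODD) (helper595; the criterion is helper602's)

If all the characters of the principal 2-block of `G` fixed by the power map `g ↦ g ^ k` have odd degree and `|G|` is
even, then the number `r` of classes of 2-elements of `G` is even.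

For `χ ∈ Irr G` let `X_χ (g) = χ (g₂)`: a generalized character (Adams operation), orthogonal to the characters outside
the principal block (S0925), fixed by the power map.  So `[X_χ, X_χ] ≡ χ(1)` modulo 2, and
`Σ_χ [X_χ, X_χ] = Σ_w κ(w)`, `κ(w)` the number of elements with 2-part `w`, which is odd.  Hence
`r ≡ Σ_χ χ(1) ≡ Σ_χ χ(1)² = |G| ≡ 0`.

* `inner_eq_zero`, `exists_int` : the functions `g ↦ η (g_p)` (any prime);
* `even_of_odd_degrees` : the theorem;
* `exists_even` : the criterion for every finite group;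
* `evenS_of_odd` : the statement of `S4522_stubs`.
-/

set_option autoImplicit false
set_option linter.unusedSectionVars false

namespace Cfsg.Agent.H595.EBOdd

open Cfsg Cfsg.Agent.Characters Cfsg.Agent.Blocks
open Cfsg.Agent.H610.EB Cfsg.Agent.H610.Twist
open Cfsg.Agent.H612.Base
open scoped ComplexConjugate

universe u

variable {G : Type u} [Group G] [Fintype G]

/-- `g ^ n` is the `p`-part of `g`, for all `g` -/
def Ex (p : ℕ) (G : Type*) [Group G] (n : ℕ) : Prop := ∀ g x : G, IsPPart p g x → g ^ n = x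

theorem conj_pow' {η : G → ℂ} (hη : IsClassFunction G η) (n : ℕ) : IsClassFunction G (fun g => η (g ^ n)) := by
  intro g h
  change η ((h * g * h⁻¹) ^ n) = η (g ^ n)
  rw [conj_pow, hη]

/-- **the function `g ↦ η (g_p)` is orthogonal to the characters outside the principal block** -/
theorem inner_eq_zero {p : ℕ} [Fact p.Prime] {M : Ideal AlgInt} (hM : IsPModular p M) {n : ℕ} (hn : Ex p G n)
    {η : G → ℂ} (hη : IsClassFunction G η) (χ : IrrCharacter G) (hχ : χ ∉ principalBlock M G) :
    classInner (fun g => η (g ^ n)) (χ : G → ℂ) = 0 := by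
  classical
  have hMp : M.IsPrime := Local.isPrime_of_isPModular hM
  have hfin : Finite (IrrCharacter G) := Core.finite_irr
  have := Fintype.ofFinite (IrrCharacter G)
  set X : G → ℂ := fun g => η (g ^ n) with hX
  have hXc : IsClassFunction G X := conj_pow' hη n
  set B : Set (IrrCharacter G) := blockOf M (χ : G → ℂ) with hB
  have hBb : IsPBlock M B := ⟨χ, rfl⟩
  have h1B : ∀ ψ ∈ B, classInner (fun _ : G => (1 : ℂ)) (ψ : G → ℂ) = 0 := by
    intro ψ hψ
    have hne : (fun _ : G => (1 : ℂ)) ≠ (ψ : G → ℂ) := by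
      intro h
      apply hχ
      change SameBlock M (fun _ : G => (1 : ℂ)) (χ : G → ℂ)
      rw [h]
      exact Basic.sameBlock_symm hψ
    exact Core.classInner_irr_ne Core.isIrr_one ψ.2 hne
  have hzero : ∀ u : G, blockPart B X u = 0 := by
    intro u
    obtain ⟨x, hx⟩ := PPart.exists_isPPart p u
    have hxk : ∃ k : ℕ, orderOf x = p ^ k := by
      obtain ⟨y, -, -, hk, -⟩ := hx
      exact hk
    have h0 := (S0925.result p M hM).1 (X - η x • (fun _ => (1 : ℂ))) (by
      intro g h
      simp only [Pi.sub_apply, Pi.smul_apply]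
      rw [hXc g h]) x hxk (by
      intro u' z hz hxz
      simp only [Pi.sub_apply, Pi.smul_apply, smul_eq_mul, mul_one, hX]
      rw [hn u' z hz, sub_eq_zero]
      obtain ⟨c, hc⟩ := isConj_iff.1 hxz
      rw [← hc, hη]) B hBb u x hx (IsConj.refl x)
    rw [CentralizerSum.blockPart_eq] at h0 ⊢
    rw [← h0]
    refine finsum_mem_congr rfl fun ψ hψ => ?_
    rw [Core.classInner_sub_left, Core.classInner_smul_left, h1B ψ hψ, mul_zero, sub_zero]
  have h2 : ∑ ψ : IrrCharacter G, (if ψ ∈ B then classInner X (ψ : G → ℂ) else 0) • (ψ : G → ℂ) = 0 := by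
    funext u
    have h3 := hzero u
    rw [CentralizerSum.blockPart_eq, finsum_mem_eq_finite_toFinset_sum _ (Set.toFinite B)] at h3
    rw [Finset.sum_apply, Pi.zero_apply]
    refine Eq.trans ?_ h3
    rw [← Finset.sum_filter_add_sum_filter_not Finset.univ (fun ψ => ψ ∈ B)]
    have h4 : ∑ ψ ∈ Finset.univ.filter (fun ψ : IrrCharacter G => ¬ ψ ∈ B),
        ((if ψ ∈ B then classInner X (ψ : G → ℂ) else 0) • (ψ : G → ℂ)) u = 0 := by
      apply Finset.sum_eq_zero
      intro ψ hψ
      rw [if_neg (Finset.mem_filter.1 hψ).2, zero_smul, Pi.zero_apply]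
    rw [h4, add_zero]
    refine Finset.sum_congr ?_ fun ψ hψ => ?_
    · ext ψ
      simp
    · rw [if_pos (by simpa using hψ), Pi.smul_apply, smul_eq_mul]
  have h3 := Core.classInner_sum_smul_irr (fun ψ : IrrCharacter G => if ψ ∈ B then classInner X (ψ : G → ℂ) else 0) χ
  rw [h2, Core.classInner_zero_left] at h3
  rw [if_pos (show χ ∈ B from Basic.sameBlock_refl _)] at h3
  exact h3.symm

/-- the coefficients are integers -/
theorem exists_int {η : G → ℂ} (hη : IsGeneralizedCharacter G η) (n : ℕ) [Fintype (IrrCharacter G)] :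
    ∃ m : IrrCharacter G → ℤ, (∀ χ : IrrCharacter G, classInner (fun g => η (g ^ n)) (χ : G → ℂ) = m χ) ∧
      classInner (fun g => η (g ^ n)) (fun g => η (g ^ n)) = ((∑ χ, m χ ^ 2 : ℤ) : ℂ) ∧
      η 1 = ((∑ χ, m χ * charDegree (χ : G → ℂ) : ℤ) : ℂ) := by
  obtain ⟨m, hm⟩ := Core.isGeneralizedCharacter_iff.1 (H139.Cusp.isGeneralizedCharacter_pow hη n)
  have hm' : (fun g => η (g ^ n)) = ∑ ψ : IrrCharacter G, (m ψ : ℂ) • (ψ : G → ℂ) := by
    rw [hm]
    exact Finset.sum_congr rfl fun ψ _ => by rw [Int.cast_smul_eq_zsmul]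
  refine ⟨m, fun χ => ?_, ?_, ?_⟩
  · rw [hm, Core.classInner_sum_zsmul_irr]
  · rw [hm', Core.classInner_sum_smul_sum_smul]
    push_cast
    refine Finset.sum_congr rfl fun χ _ => ?_
    rw [map_intCast, pow_two]
  · have h1 := congrFun hm' 1
    rw [one_pow] at h1
    rw [h1, Finset.sum_apply]
    push_cast
    refine Finset.sum_congr rfl fun χ _ => ?_
    obtain ⟨d, -, hd⟩ := Core.isIrr_apply_one χ.2
    rw [Pi.smul_apply, smul_eq_mul, hd]
    congr 1
    unfold charDegree
    rw [hd]
    simp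

/-- a sum over an involution -/
theorem even_sum {ι : Type*} [Fintype ι] (τ : ι → ι) (hτ : ∀ i, τ (τ i) = i) (f : ι → ℤ) (hf : ∀ i, f (τ i) = f i)
    (hfix : ∀ i, τ i = i → Even (f i)) : Even (∑ i, f i) := by
  classical
  have key : ((∑ i, f i : ℤ) : ZMod 2) = 0 := by
    rw [Int.cast_sum]
    refine Finset.sum_involution (fun i _ => τ i) ?_ ?_ (fun _ _ => Finset.mem_univ _) (fun i _ => hτ i)
    · intro i _
      rw [hf i, ← Int.cast_add, ← two_mul]
      exact (ZMod.intCast_zmod_eq_zero_iff_dvd _ 2).2 ⟨_, rfl⟩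
    · intro i _ hi h
      apply hi
      exact (ZMod.intCast_zmod_eq_zero_iff_dvd _ 2).2 (hfix i h).two_dvd
  exact even_iff_two_dvd.2 ((ZMod.intCast_zmod_eq_zero_iff_dvd _ 2).1 key)

/-- the number of elements with 2-part `w` -/
noncomputable def kap (n : ℕ) (w : G) : ℕ := Nat.card {g : G // g ^ n = w}

theorem kap_conj (n : ℕ) (w c : G) : kap n (c * w * c⁻¹) = kap n w := by
  unfold kap
  refine Nat.card_congr ⟨fun g => ⟨c⁻¹ * g * c, ?_⟩, fun g => ⟨c * g * c⁻¹, ?_⟩, fun g => Subtype.ext (by group),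
    fun g => Subtype.ext (by group)⟩
  · have h1 : (c⁻¹ * (g : G) * c) ^ n = c⁻¹ * (g : G) ^ n * c := by
      have := conj_pow (a := c⁻¹) (b := (g : G)) (i := n)
      rwa [inv_inv] at this
    rw [h1, g.2]
    group
  · rw [conj_pow, g.2]

/-- `Σ_χ [X_χ, X_χ]` is the sum of the numbers `κ` over the classes -/
theorem sum_inner (n : ℕ) [Fintype (IrrCharacter G)] [Fintype (ConjClasses G)] :
    ∑ χ : IrrCharacter G, classInner (fun g => (χ : G → ℂ) (g ^ n)) (fun g => (χ : G → ℂ) (g ^ n)) =
      ((∑ C : ConjClasses G, kap n C.out : ℕ) : ℂ) := by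
  classical
  have h0 : (Nat.card G : ℂ) ≠ 0 := Core.card_ne_zero_complex
  have h1 : ∀ u : G, ∑ χ : IrrCharacter G, (χ : G → ℂ) u * conj ((χ : G → ℂ) u) =
      (Nat.card (Subgroup.centralizer ({u} : Set G)) : ℂ) := by
    intro u
    have h2 := (S0145.result u u).1 (IsConj.refl u)
    rwa [finsum_eq_sum_of_fintype] at h2
  have h2 : ∑ χ : IrrCharacter G, classInner (fun g => (χ : G → ℂ) (g ^ n)) (fun g => (χ : G → ℂ) (g ^ n)) =
      (Nat.card G : ℂ)⁻¹ * ∑ g : G, (Nat.card (Subgroup.centralizer ({g ^ n} : Set G)) : ℂ) := by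
    simp only [Core.classInner_def]
    rw [← Finset.mul_sum, Finset.sum_comm]
    congr 1
    exact Finset.sum_congr rfl fun g _ => h1 _
  have h3 : ∑ g : G, (Nat.card (Subgroup.centralizer ({g ^ n} : Set G)) : ℂ) =
      ∑ u : G, (kap n u : ℂ) * (Nat.card (Subgroup.centralizer ({u} : Set G)) : ℂ) := by
    rw [← Finset.sum_fiberwise Finset.univ (fun g : G => g ^ n)]
    refine Finset.sum_congr rfl fun u _ => ?_
    have h4 : ∀ g ∈ Finset.univ.filter (fun g : G => g ^ n = u),
        (Nat.card (Subgroup.centralizer ({g ^ n} : Set G)) : ℂ) = Nat.card (Subgroup.centralizer ({u} : Set G)) := by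
      intro g hg
      rw [(Finset.mem_filter.1 hg).2]
    rw [Finset.sum_congr rfl h4, Finset.sum_const, nsmul_eq_mul]
    congr 2
    unfold kap
    rw [Nat.card_eq_fintype_card, Fintype.card_subtype]
  rw [h2, h3, ← S0962.sum_index_mul (fun u => (kap n u : ℂ) * (Nat.card (Subgroup.centralizer ({u} : Set G)) : ℂ)) (by
    intro g h
    congr 2
    · rw [kap_conj]
    · have h5 : Subgroup.centralizer ({h * g * h⁻¹} : Set G) =
          (Subgroup.centralizer ({g} : Set G)).map (MulAut.conj h).toMonoidHom := by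
        ext x
        rw [Subgroup.mem_map_equiv, Subgroup.mem_centralizer_singleton_iff, Subgroup.mem_centralizer_singleton_iff,
          MulAut.conj_symm_apply]
        constructor
        · intro hx
          calc h⁻¹ * x * h * g = h⁻¹ * (x * (h * g * h⁻¹)) * h := by group
            _ = h⁻¹ * (h * g * h⁻¹ * x) * h := by rw [hx]
            _ = g * (h⁻¹ * x * h) := by group
        · intro hx
          calc x * (h * g * h⁻¹) = h * (h⁻¹ * x * h * g) * h⁻¹ := by group
            _ = h * (g * (h⁻¹ * x * h)) * h⁻¹ := by rw [hx]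
            _ = h * g * h⁻¹ * x := by group
      rw [h5, Subgroup.card_map_of_injective (MulAut.conj h).injective])]
  push_cast
  rw [Finset.mul_sum]
  refine Finset.sum_congr rfl fun C _ => ?_
  have h6 := Subgroup.card_mul_index (Subgroup.centralizer ({C.out} : Set G))
  have h7 : (Nat.card (Subgroup.centralizer ({C.out} : Set G)) : ℂ) *
      ((Subgroup.centralizer ({C.out} : Set G)).index : ℂ) = Nat.card G := by exact_mod_cast h6
  calc (Nat.card G : ℂ)⁻¹ * (((Subgroup.centralizer ({C.out} : Set G)).index : ℂ) *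
        ((kap n C.out : ℂ) * (Nat.card (Subgroup.centralizer ({C.out} : Set G)) : ℂ)))
      = (Nat.card G : ℂ)⁻¹ * (kap n C.out : ℂ) * ((Nat.card (Subgroup.centralizer ({C.out} : Set G)) : ℂ) *
        ((Subgroup.centralizer ({C.out} : Set G)).index : ℂ)) := by ring
    _ = kap n C.out := by rw [h7]; field_simp

/-- a 2-element `w` is the 2-part of an odd number of elements -/
theorem odd_kap {n : ℕ} (hn : Ex 2 G n) {w : G} (hw : ∃ j : ℕ, orderOf w = 2 ^ j) (h2 : Even (Nat.card G)) :
    Odd (kap n w) := by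
  classical
  have hf2 : Fact (Nat.Prime 2) := ⟨Nat.prime_two⟩
  have hwn : w ^ n = w := hn w w (PPart.isPPart_of_isPGroup hw)
  have hnodd : Odd n := by
    obtain ⟨t, ht⟩ := exists_prime_orderOf_dvd_card' (G := G) 2 h2.two_dvd
    have h3 := hn t t (PPart.isPPart_of_isPGroup ⟨1, by rw [ht, pow_one]⟩)
    by_contra hcon
    rw [Nat.not_odd_iff_even] at hcon
    obtain ⟨c, hc⟩ := hcon
    have h4 : t ^ 2 = 1 := by rw [← ht]; exact pow_orderOf_eq_one t
    rw [hc, ← two_mul, pow_mul, h4, one_pow] at h3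
    rw [← h3, orderOf_one] at ht
    norm_num at ht
  -- the involution
  have hcomm : ∀ g : {g : G // g ^ n = w}, Commute w (g : G) := by
    rintro ⟨g, hg⟩
    change Commute w g
    rw [← hg]
    exact (Commute.refl g).pow_left n
  let τ : {g : G // g ^ n = w} → {g : G // g ^ n = w} := fun g => ⟨w * w * (g : G)⁻¹, by
    have h3 : Commute (w * w) (g : G)⁻¹ := ((hcomm g).mul_left (hcomm g)).inv_right
    rw [h3.mul_pow, inv_pow, g.2, (Commute.refl w).mul_pow, hwn, mul_inv_cancel_right]⟩
  have hττ : ∀ g, τ (τ g) = g := by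
    intro g
    apply Subtype.ext
    change w * w * (w * w * (g : G)⁻¹)⁻¹ = g
    have h3 : Commute (w * w) (g : G) := (hcomm g).mul_left (hcomm g)
    rw [mul_inv_rev, inv_inv, ← mul_assoc, h3.eq, mul_inv_cancel_right]
  have hone : ∀ g, τ g = g → g = ⟨w, hwn⟩ := by
    intro g hg
    apply Subtype.ext
    have h3 : w * w * (g : G)⁻¹ = g := congrArg Subtype.val hg
    have h4 : w * w = (g : G) * g := mul_inv_eq_iff_eq_mul.1 h3
    set s := w⁻¹ * (g : G) with hs
    have hcs : Commute w⁻¹ (g : G) := (hcomm g).inv_left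
    have h5 : s ^ 2 = 1 := by
      rw [hs, hcs.mul_pow, inv_pow, pow_two, pow_two, ← h4, inv_mul_cancel]
    have h6 : s ^ n = 1 := by
      rw [hs, hcs.mul_pow, inv_pow, hwn, g.2, inv_mul_cancel]
    have h7 : s = 1 := by
      have h8 : orderOf s ∣ 2 := orderOf_dvd_of_pow_eq_one h5
      have h9 : orderOf s ∣ n := orderOf_dvd_of_pow_eq_one h6
      have h10 : Nat.Coprime 2 n := Nat.coprime_two_left.2 hnodd
      exact orderOf_eq_one_iff.1 (Nat.eq_one_of_dvd_coprimes h10 h8 h9)
    rw [hs, inv_mul_eq_one] at h7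
    exact h7.symm
  have h3 := even_sum τ hττ (fun g => if g = ⟨w, hwn⟩ then 0 else 1) (by
    intro g
    by_cases hg : g = ⟨w, hwn⟩
    · have h4 : τ g = ⟨w, hwn⟩ := by
        rw [hg]
        apply Subtype.ext
        change w * w * w⁻¹ = w
        rw [mul_inv_cancel_right]
      rw [if_pos h4, if_pos hg]
    · have h4 : τ g ≠ ⟨w, hwn⟩ := by
        intro h5
        apply hg
        rw [← hττ g, h5]
        apply Subtype.ext
        change w * w * w⁻¹ = w
        rw [mul_inv_cancel_right]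
      rw [if_neg h4, if_neg hg]) (by
    intro g hg
    rw [if_pos (hone g hg)]
    exact Even.zero)
  rw [Finset.sum_ite, Finset.sum_const_zero, zero_add, Finset.sum_const, nsmul_eq_mul, mul_one] at h3
  have h4 : (Finset.univ.filter fun g : {g : G // g ^ n = w} => g = ⟨w, hwn⟩).card = 1 := by
    rw [Finset.card_eq_one]
    exact ⟨⟨w, hwn⟩, by ext g; simp⟩
  have h5 := Finset.card_filter_add_card_filter_not (s := (Finset.univ : Finset {g : G // g ^ n = w}))
    (fun g => g = ⟨w, hwn⟩)
  rw [h4, Finset.card_univ, ← Nat.card_eq_fintype_card] at h5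
  have h6 : Even (Finset.univ.filter fun g : {g : G // g ^ n = w} => ¬ g = ⟨w, hwn⟩).card := by exact_mod_cast h3
  change Odd (Nat.card {g : G // g ^ n = w})
  rw [← h5, add_comm]
  exact h6.add_one

/-- **the parity theorem** -/
theorem even_of_odd_degrees {k : ℕ} (hk : KM G k) {M : Ideal AlgInt} (hM : IsPModular 2 M) (h2 : Even (Nat.card G))
    (h2k : ∀ g : G, (∃ j : ℕ, orderOf g = 2 ^ j) → g ^ k = g)
    (hodd : ∀ χ ∈ principalBlock M G, Fx k (χ : G → ℂ) → Odd (charDegree (χ : G → ℂ))) :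
    Even (Nat.card {c : ConjClasses G // ∃ g : G, ConjClasses.mk g = c ∧ ∃ j : ℕ, orderOf g = 2 ^ j}) := by
  classical
  have hf2 : Fact (Nat.Prime 2) := ⟨Nat.prime_two⟩
  have hfin : Finite (IrrCharacter G) := Core.finite_irr
  have := Fintype.ofFinite (IrrCharacter G)
  have := Fintype.ofFinite (ConjClasses G)
  obtain ⟨n, hn⟩ := PPart.exists_pow_eq (G := G) 2
  -- `[X_χ, X_χ] ≡ χ(1)`
  have h1 : ∀ χ : IrrCharacter G, ∃ a : ℤ,
      classInner (fun g => (χ : G → ℂ) (g ^ n)) (fun g => (χ : G → ℂ) (g ^ n)) = (a : ℂ) ∧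
      Even (a - charDegree (χ : G → ℂ)) := by
    intro χ
    obtain ⟨m, hm, hmm, hm1⟩ := exists_int (Brauer.isGeneralizedCharacter_of_isCharacter (Core.isIrr_isCharacter χ.2)) n
    refine ⟨_, hmm, ?_⟩
    have hdeg : ∀ ψ : IrrCharacter G, (ψ : G → ℂ) 1 = charDegree (ψ : G → ℂ) := by
      intro ψ
      obtain ⟨d, -, hd⟩ := Core.isIrr_apply_one ψ.2
      unfold charDegree
      rw [hd]
      simp
    have h3 : (charDegree (χ : G → ℂ) : ℤ) = ∑ ψ : IrrCharacter G, m ψ * charDegree (ψ : G → ℂ) := by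
      have h4 := hm1
      rw [hdeg] at h4
      exact_mod_cast h4
    rw [h3, ← Finset.sum_sub_distrib]
    refine even_sum (pw hk.coprime) (pw_pw hk) _ ?_ ?_
    · intro ψ
      have hFx : Fx k (fun g => (χ : G → ℂ) (g ^ n)) := by
        intro g
        change (χ : G → ℂ) ((g ^ k) ^ n) = (χ : G → ℂ) (g ^ n)
        rw [← pow_mul, mul_comm, pow_mul]
        obtain ⟨x, hx⟩ := PPart.exists_isPPart 2 g
        rw [hn g x hx]
        obtain ⟨y, -, -, hj, -⟩ := hx
        rw [h2k x hj]
      have h5 : m (pw hk.coprime ψ) = m ψ := by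
        have h6 := classInner_pw hk hFx ψ
        rw [hm, hm] at h6
        exact_mod_cast h6
      have h6 : charDegree (pw hk.coprime ψ : G → ℂ) = charDegree (ψ : G → ℂ) := by
        unfold charDegree
        rw [pw_apply, one_pow]
      rw [h5, h6]
    · intro ψ hψ
      rw [pw_eq_iff hk] at hψ
      by_cases hB : ψ ∈ principalBlock M G
      · have h5 := hodd ψ hB hψ
        have h6 : Even (m ψ * (m ψ - charDegree (ψ : G → ℂ))) := by
          rw [Int.even_mul]
          by_cases h7 : Even (m ψ)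
          · exact Or.inl h7
          · right
            rw [Int.not_even_iff_odd] at h7
            exact h7.sub_odd (by exact_mod_cast h5)
        have h7 : m ψ ^ 2 - m ψ * charDegree (ψ : G → ℂ) = m ψ * (m ψ - charDegree (ψ : G → ℂ)) := by ring
        rw [h7]
        exact h6
      · have h5 := inner_eq_zero hM hn (Core.isIrr_isClassFunction χ.2) ψ hB
        rw [hm] at h5
        have h6 : m ψ = 0 := by exact_mod_cast h5
        rw [h6]
        simp
  choose a ha hae using h1
  have h3 := sum_inner (G := G) n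
  rw [Finset.sum_congr rfl fun χ _ => ha χ] at h3
  have h4 : ∑ χ : IrrCharacter G, a χ = ((∑ C : ConjClasses G, kap n C.out : ℕ) : ℤ) := by exact_mod_cast h3
  -- the sum of the degrees
  have h5 : Even (∑ χ : IrrCharacter G, (charDegree (χ : G → ℂ) : ℤ)) := by
    have h9 := (S0145.result (1 : G) 1).1 (IsConj.refl 1)
    rw [finsum_eq_sum_of_fintype] at h9
    have hc : Subgroup.centralizer ({1} : Set G) = ⊤ := by
      rw [eq_top_iff]
      intro g _
      rw [Subgroup.mem_centralizer_singleton_iff, mul_one, one_mul]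
    have h10 : ∑ χ : IrrCharacter G, (charDegree (χ : G → ℂ) : ℤ) ^ 2 = (Nat.card G : ℤ) := by
      rw [hc, Subgroup.card_top] at h9
      have h11 : ((∑ χ : IrrCharacter G, (charDegree (χ : G → ℂ) : ℤ) ^ 2 : ℤ) : ℂ) = ((Nat.card G : ℤ) : ℂ) := by
        push_cast
        rw [← h9]
        refine Finset.sum_congr rfl fun χ _ => ?_
        obtain ⟨d, -, hd⟩ := Core.isIrr_apply_one χ.2
        have h12 : charDegree (χ : G → ℂ) = d := by
          unfold charDegree
          rw [hd]
          simp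
        rw [hd, h12, Complex.conj_natCast, pow_two]
      exact_mod_cast h11
    have h11 : Even (∑ χ : IrrCharacter G, ((charDegree (χ : G → ℂ) : ℤ) ^ 2 - charDegree (χ : G → ℂ))) := by
      refine Finset.even_sum _ fun χ _ => ?_
      have h12 : ((charDegree (χ : G → ℂ) : ℤ) ^ 2 - charDegree (χ : G → ℂ)) =
          charDegree (χ : G → ℂ) * (charDegree (χ : G → ℂ) - 1) := by ring
      rw [h12]
      exact Int.even_mul_pred_self _
    rw [Finset.sum_sub_distrib, h10] at h11
    have h12 : Even (Nat.card G : ℤ) := by exact_mod_cast h2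
    exact (Int.even_sub.1 h11).1 h12
  have h6 : Even ((∑ C : ConjClasses G, kap n C.out : ℕ) : ℤ) := by
    rw [← h4]
    have h7 : ∑ χ : IrrCharacter G, a χ = ∑ χ : IrrCharacter G, (a χ - charDegree (χ : G → ℂ)) +
        ∑ χ : IrrCharacter G, (charDegree (χ : G → ℂ) : ℤ) := by
      rw [← Finset.sum_add_distrib]
      exact Finset.sum_congr rfl fun χ _ => by ring
    rw [h7]
    exact (Finset.even_sum _ fun χ _ => hae χ).add h5
  have h7 : Even (∑ C : ConjClasses G, kap n C.out) := by exact_mod_cast h6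
  -- parity of the numbers `κ`
  have h8 : ∀ C : ConjClasses G, (Odd (kap n C.out) ↔ ∃ g : G, ConjClasses.mk g = C ∧ ∃ j : ℕ, orderOf g = 2 ^ j) := by
    intro C
    constructor
    · intro h
      have h9 : 0 < kap n C.out := h.pos
      unfold kap at h9
      obtain ⟨⟨g, hg⟩⟩ := (Nat.card_pos_iff.1 h9).1
      obtain ⟨x, hx⟩ := PPart.exists_isPPart 2 g
      have h10 := hn g x hx
      obtain ⟨y, -, -, hj, -⟩ := hx
      refine ⟨C.out, Quotient.out_eq C, ?_⟩
      rw [← hg, h10]
      exact hj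
    · rintro ⟨g, hg, j, hj⟩
      apply odd_kap hn _ h2
      have h9 : IsConj g C.out := by
        rw [← ConjClasses.mk_eq_mk_iff_isConj, hg]
        exact (Quotient.out_eq C).symm
      obtain ⟨c, hc⟩ := isConj_iff.1 h9
      refine ⟨j, ?_⟩
      rw [← hc, ← hj]
      exact MulEquiv.orderOf_eq (MulAut.conj c) g
  rw [Finset.even_sum_iff_even_card_odd] at h7
  rw [Nat.card_eq_fintype_card, Fintype.card_subtype]
  convert h7 using 3
  rw [h8]

/-- the criterion for every finite group -/
theorem exists_even {k : ℕ} (hk : IsK G k) {M : Ideal AlgInt} (hM : IsPModular 2 M) (h2 : Even (Nat.card G))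
    (h : Odd (Nat.card {c : ConjClasses G // ∃ g : G, ConjClasses.mk g = c ∧ ∃ j : ℕ, orderOf g = 2 ^ j})) :
    ∃ χ ∈ principalBlock M G, Even (charDegree (χ : G → ℂ)) ∧
      (∀ g : G, (χ : G → ℂ) (g ^ k) = (χ : G → ℂ) g) ∧ (χ : G → ℂ) ≠ fun _ => 1 := by
  by_contra hcon
  push Not at hcon
  refine (Nat.not_even_iff_odd.2 h) (even_of_odd_degrees (H684.EB.km_of_isK hk) hM h2 hk.two fun χ hχ hF => ?_)
  by_contra hodd
  rw [Nat.not_odd_iff_even] at hodd
  have h1 := hcon χ hχ hodd hF
  rw [h1] at hodd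
  unfold charDegree at hodd
  simp at hodd

/-- **(ODD)** -/
theorem evenS_of_odd {S : Type u} [Group S] [Fintype S] (P : Sylow 2 S) (hP : ¬ IsMulCommutative P)
    (h : Odd (Nat.card {c : ConjClasses S // ∃ g : S, ConjClasses.mk g = c ∧ ∃ j : ℕ, orderOf g = 2 ^ j})) :
    H684.EB.EvenS S := by
  intro k hk M hM
  refine exists_even hk hM ?_ h
  have hf2 : Fact (Nat.Prime 2) := ⟨Nat.prime_two⟩
  by_contra hodd
  apply hP
  have h1 : Nat.card P = 1 := by
    rw [P.card_eq_multiplicity, Nat.factorization_eq_zero_of_not_dvd (fun h2 => hodd (even_iff_two_dvd.2 h2)), pow_zero]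
  have h2 : Subsingleton P := (Nat.card_eq_one_iff_unique.1 h1).1
  exact ⟨⟨fun a b => Subsingleton.elim _ _⟩⟩

end Cfsg.Agent.H595.EBOdd
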